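import Mathlib
import Groth.Agent.Lib.Helper1.TorL

universe u
open CategoryTheory CategoryTheory.Limits MonoidalCategory

namespace Groth.Agent.Helper5.TorNull
open Groth.Agent.Helper1.TorL

variable {A : Type u} [CommRing A]

/-- functoriality of `tensSC` -/
noncomputable def tensSCMap {S S' : ShortComplex (ModuleCat.{u} A)} (φ : S ⟶ S')
    (Q : ChainComplex (ModuleCat.{u} A) ℕ) : tensSC S Q ⟶ tensSC S' Q where
  τ₁ := tensCxMap φ.τ₁ Q
  τ₂ := tensCxMap φ.τ₂ Q
  τ₃ := tensCxMap φ.τ₃ Q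
  comm₁₂ := by
    ext i : 1
    show φ.τ₁ ▷ Q.X i ≫ S'.f ▷ Q.X i = S.f ▷ Q.X i ≫ φ.τ₂ ▷ Q.X i
    rw [← comp_whiskerRight, ← comp_whiskerRight, φ.comm₁₂]
  comm₂₃ := by
    ext i : 1
    show φ.τ₂ ▷ Q.X i ≫ S'.g ▷ Q.X i = S.g ▷ Q.X i ≫ φ.τ₃ ▷ Q.X i
    rw [← comp_whiskerRight, ← comp_whiskerRight, φ.comm₂₃]

theorem torδ_naturality {S S' : ShortComplex (ModuleCat.{u} A)} (φ : S ⟶ S') (hS : S.ShortExact)
    (hS' : S'.ShortExact) (Y : ModuleCat.{u} A) (n : ℕ) :
    torδ S hS Y n ≫ ((Tor (ModuleCat.{u} A) n).map φ.τ₁).app Y =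
      ((Tor (ModuleCat.{u} A) (n + 1)).map φ.τ₃).app Y ≫ torδ S' hS' Y n := by
  rw [← cancel_mono (torIso S'.X₁ (projectiveResolution Y) n).hom]
  simp only [Category.assoc]
  rw [tor_map_hom φ.τ₁ (projectiveResolution Y) n, reassoc_of% (torδ_hom S hS Y n),
    torδ_hom S' hS' Y n, reassoc_of% (tor_map_hom φ.τ₃ (projectiveResolution Y) (n + 1))]
  congr 1
  exact HomologicalComplex.HomologySequence.δ_naturality
    (tensSCMap φ (projectiveResolution Y).complex) _ _ (n + 1) n (relDown n)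

theorem smul_id_tor_eq_zero (X Y : ModuleCat.{u} A) (r : A) (hr : ∀ y : Y, r • y = 0) (n : ℕ) :
    r • 𝟙 (T n X Y) = 0 := by
  let Q := projectiveResolution Y
  have hπ : r • Q.π.f 0 = 0 := by
    apply ModuleCat.hom_ext
    ext x
    exact hr _
  have hcomm : (r • 𝟙 Q.complex : Q.complex ⟶ Q.complex).f 0 ≫ Q.π.f 0 = Q.π.f 0 ≫ (0 : Y ⟶ Y) := by
    have : (r • 𝟙 Q.complex : Q.complex ⟶ Q.complex).f 0 ≫ Q.π.f 0 = r • Q.π.f 0 := by
      rw [HomologicalComplex.smul_f_apply, HomologicalComplex.id_f, Linear.smul_comp,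
        Category.id_comp]
    rw [this, hπ]
    exact comp_zero.symm
  have hcomm0 : (0 : Q.complex ⟶ Q.complex).f 0 ≫ Q.π.f 0 = Q.π.f 0 ≫ (0 : Y ⟶ Y) := by
    rw [HomologicalComplex.zero_f, zero_comp]
    exact comp_zero.symm
  have key := ProjectiveResolution.isoLeftDerivedObj_hom_naturality (0 : Y ⟶ Y) Q Q
    (r • 𝟙 Q.complex) hcomm ((tensoringLeft (ModuleCat.{u} A)).obj X) n
  have key0 := ProjectiveResolution.isoLeftDerivedObj_hom_naturality (0 : Y ⟶ Y) Q Q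
    0 hcomm0 ((tensoringLeft (ModuleCat.{u} A)).obj X) n
  rw [key0, Functor.map_zero, comp_zero] at key
  have h1 : (((tensoringLeft (ModuleCat.{u} A)).obj X).mapHomologicalComplex
      (ComplexShape.down ℕ)).map (r • 𝟙 Q.complex) = r • 𝟙 _ := by
    ext i : 1
    show X ◁ (r • 𝟙 (Q.complex.X i)) = r • 𝟙 _
    rw [MonoidalLinear.whiskerLeft_smul, whiskerLeft_id]
    rfl
  rw [Functor.comp_map, h1] at key
  have h2 : (HomologicalComplex.homologyFunctor (ModuleCat.{u} A) (ComplexShape.down ℕ) n).map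
      (r • 𝟙 (tensCx X Q.complex)) = r • 𝟙 _ := by
    show HomologicalComplex.homologyMap (r • 𝟙 (tensCx X Q.complex)) n = _
    rw [homologyMap_smul', HomologicalComplex.homologyMap_id]
    rfl
  erw [h2] at key
  rw [Linear.comp_smul, Category.comp_id] at key
  have h3 : r • 𝟙 (T n X Y) = (r • (Q.isoLeftDerivedObj
      ((tensoringLeft (ModuleCat.{u} A)).obj X) n).hom) ≫
      (Q.isoLeftDerivedObj ((tensoringLeft (ModuleCat.{u} A)).obj X) n).inv := by
    rw [Linear.smul_comp, Iso.hom_inv_id]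
    rfl
  rw [h3, ← key, zero_comp]
  rfl

theorem tor_map_smul_eq_zero {X X' : ModuleCat.{u} A} (f : X ⟶ X') (Y : ModuleCat.{u} A) (r : A)
    (hr : ∀ y : Y, r • y = 0) (n : ℕ) :
    ((Tor (ModuleCat.{u} A) n).map (r • f)).app Y = 0 := by
  rw [tor_map_smul, ← Category.id_comp (((Tor (ModuleCat.{u} A) n).map f).app Y),
    ← Linear.smul_comp]
  erw [smul_id_tor_eq_zero X Y r hr n, zero_comp]

theorem tensCxMap_add {X X' : ModuleCat.{u} A} (f g : X ⟶ X')
    (Q : ChainComplex (ModuleCat.{u} A) ℕ) :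
    tensCxMap (f + g) Q = tensCxMap f Q + tensCxMap g Q := by
  ext i : 1
  show (f + g) ▷ Q.X i = f ▷ Q.X i + g ▷ Q.X i
  exact MonoidalPreadditive.add_whiskerRight ..

theorem tor_map_add {X X' : ModuleCat.{u} A} (f g : X ⟶ X') (Y : ModuleCat.{u} A) (n : ℕ) :
    ((Tor (ModuleCat.{u} A) n).map (f + g)).app Y =
      ((Tor (ModuleCat.{u} A) n).map f).app Y + ((Tor (ModuleCat.{u} A) n).map g).app Y := by
  rw [tor_map_eq (f + g) (projectiveResolution Y) n, tor_map_eq f (projectiveResolution Y) n,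
    tor_map_eq g (projectiveResolution Y) n, tensCxMap_add, HomologicalComplex.homologyMap_add,
    Preadditive.add_comp, Preadditive.comp_add]

end Groth.Agent.Helper5.TorNull
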