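import Mathlib
import Groth.Agent.Lib.Helper5.TorNull.Basic

universe u
open CategoryTheory CategoryTheory.Limits MonoidalCategory

namespace Groth.Agent.Helper5.TorNull
open Groth.Agent.Helper1.TorL

variable {A : Type u} [CommRing A] (N : Type u) [AddCommGroup N] [Module A N]

/-- a linear map inducing zero on all `Tor_p(-, N)` -/
def IsTorNull {X X' : Type u} [AddCommGroup X] [Module A X] [AddCommGroup X'] [Module A X']
    (φ : X →ₗ[A] X') : Prop :=
  ∀ p : ℕ, ((Tor (ModuleCat.{u} A) p).map (ModuleCat.ofHom φ)).app (ModuleCat.of A N) = 0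

variable {N}
variable {X X' X'' : Type u} [AddCommGroup X] [Module A X] [AddCommGroup X'] [Module A X']
  [AddCommGroup X''] [Module A X'']

theorem IsTorNull.comp_left {φ : X →ₗ[A] X'} (h : IsTorNull N φ) (ψ : X' →ₗ[A] X'') :
    IsTorNull N (ψ ∘ₗ φ) := by
  intro p
  rw [ModuleCat.ofHom_comp, Functor.map_comp, NatTrans.comp_app, h p, zero_comp]

theorem IsTorNull.comp_right {φ : X' →ₗ[A] X''} (h : IsTorNull N φ) (ψ : X →ₗ[A] X') :
    IsTorNull N (φ ∘ₗ ψ) := by
  intro p
  rw [ModuleCat.ofHom_comp, Functor.map_comp, NatTrans.comp_app, h p, comp_zero]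

theorem IsTorNull.smul (r : A) (hr : ∀ y : N, r • y = 0) (φ : X →ₗ[A] X') : IsTorNull N (r • φ) := by
  intro p
  have : ModuleCat.ofHom (r • φ) = r • ModuleCat.ofHom φ := rfl
  rw [this]
  exact tor_map_smul_eq_zero _ _ r hr p

theorem IsTorNull.add {φ φ' : X →ₗ[A] X'} (h : IsTorNull N φ) (h' : IsTorNull N φ') :
    IsTorNull N (φ + φ') := by
  intro p
  have : ModuleCat.ofHom (φ + φ') = ModuleCat.ofHom φ + ModuleCat.ofHom φ' := rfl
  rw [this, tor_map_add, h p, h' p, add_zero]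

theorem IsTorNull.of_comp_bijective (μ : X →ₗ[A] X') (hμ : Function.Bijective μ) (φ : X' →ₗ[A] X'')
    (h : IsTorNull N (φ ∘ₗ μ)) : IsTorNull N φ := by
  intro p
  have hp := h p
  rw [ModuleCat.ofHom_comp, Functor.map_comp, NatTrans.comp_app] at hp
  have : IsIso (ModuleCat.ofHom μ) :=
    (ConcreteCategory.isIso_iff_bijective (ModuleCat.ofHom μ)).mpr hμ
  have : IsIso (((Tor (ModuleCat.{u} A) p).map (ModuleCat.ofHom μ)).app (ModuleCat.of A N)) :=
    inferInstance
  rw [← cancel_epi (((Tor (ModuleCat.{u} A) p).map (ModuleCat.ofHom μ)).app (ModuleCat.of A N)),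
    hp, comp_zero]

theorem IsTorNull.zero : IsTorNull N (0 : X →ₗ[A] X') := by
  have : (0 : X →ₗ[A] X') = (0 : A) • (0 : X →ₗ[A] X') := (zero_smul _ _).symm
  rw [this]
  exact IsTorNull.smul 0 (fun y => zero_smul _ _) _

theorem isTorNull_of_ses {X₁' X₂' X₃' X₁ X₂ X₃ M : Type u}
    [AddCommGroup X₁'] [Module A X₁'] [AddCommGroup X₂'] [Module A X₂']
    [AddCommGroup X₃'] [Module A X₃'] [AddCommGroup X₁] [Module A X₁]
    [AddCommGroup X₂] [Module A X₂] [AddCommGroup X₃] [Module A X₃]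
    [AddCommGroup M] [Module A M]
    (f' : X₁' →ₗ[A] X₂') (g' : X₂' →ₗ[A] X₃') (hf' : Function.Injective f')
    (hg' : Function.Surjective g') (he' : Function.Exact f' g')
    (f : X₁ →ₗ[A] X₂) (g : X₂ →ₗ[A] X₃) (hf : Function.Injective f)
    (hg : Function.Surjective g) (he : Function.Exact f g)
    (φ₁ : X₁' →ₗ[A] X₁) (φ₂ : X₂' →ₗ[A] X₂) (φ₃ : X₃' →ₗ[A] X₃)
    (c₁ : f ∘ₗ φ₁ = φ₂ ∘ₗ f') (c₂ : g ∘ₗ φ₂ = φ₃ ∘ₗ g')
    (ψ : X₃ →ₗ[A] M) (h1 : IsTorNull N φ₁) (h2 : IsTorNull N (ψ ∘ₗ g)) :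
    IsTorNull N (ψ ∘ₗ φ₃) := by
  let S' := ModuleCat.shortComplexOfCompEqZero f' g' he'.linearMap_comp_eq_zero
  let S := ModuleCat.shortComplexOfCompEqZero f g he.linearMap_comp_eq_zero
  have hS' : S'.ShortExact := ModuleCat.shortComplex_shortExact _ he' hf' hg'
  have hS : S.ShortExact := ModuleCat.shortComplex_shortExact _ he hf hg
  let Φ : S' ⟶ S :=
    { τ₁ := ModuleCat.ofHom φ₁
      τ₂ := ModuleCat.ofHom φ₂
      τ₃ := ModuleCat.ofHom φ₃
      comm₁₂ := by
        show ModuleCat.ofHom φ₁ ≫ ModuleCat.ofHom f = ModuleCat.ofHom f' ≫ ModuleCat.ofHom φ₂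
        rw [← ModuleCat.ofHom_comp, ← ModuleCat.ofHom_comp, c₁]
      comm₂₃ := by
        show ModuleCat.ofHom φ₂ ≫ ModuleCat.ofHom g = ModuleCat.ofHom g' ≫ ModuleCat.ofHom φ₃
        rw [← ModuleCat.ofHom_comp, ← ModuleCat.ofHom_comp, c₂] }
  set Y := ModuleCat.of A N with hY
  intro p
  rw [ModuleCat.ofHom_comp, Functor.map_comp, NatTrans.comp_app]
  cases p with
  | zero =>
    -- `Tor₀(g')` is an epimorphism
    have hepi : Epi (((Tor (ModuleCat.{u} A) 0).map S'.g).app Y) := by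
      have e := tor0Iso_naturality S'.g Y
      have h3 : Epi (S'.g ▷ Y) := by
        rw [ModuleCat.epi_iff_surjective]
        exact LinearMap.rTensor_surjective _ hg'
      have h4 : Epi (((Tor (ModuleCat.{u} A) 0).map S'.g).app Y ≫ (tor0Iso S'.X₃ Y).hom) := by
        rw [e]; infer_instance
      have h5 : ((Tor (ModuleCat.{u} A) 0).map S'.g).app Y =
          (((Tor (ModuleCat.{u} A) 0).map S'.g).app Y ≫ (tor0Iso S'.X₃ Y).hom) ≫
            (tor0Iso S'.X₃ Y).inv := by simp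
      rw [h5]; infer_instance
    rw [← cancel_epi (((Tor (ModuleCat.{u} A) 0).map S'.g).app Y), comp_zero]
    have h6 : S'.g ≫ ModuleCat.ofHom φ₃ = ModuleCat.ofHom φ₂ ≫ S.g := Φ.comm₂₃.symm
    rw [← Category.assoc, ← NatTrans.comp_app, ← Functor.map_comp, h6, Functor.map_comp,
      NatTrans.comp_app, Category.assoc, ← NatTrans.comp_app, ← Functor.map_comp]
    have h7 := h2 0
    rw [ModuleCat.ofHom_comp] at h7
    erw [h7, comp_zero]
  | succ p =>
    apply ModuleCat.hom_ext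
    apply LinearMap.ext
    intro y
    have hnat := torδ_naturality Φ hS' hS Y p
    have h8 : (torδ S hS Y p).hom
        ((((Tor (ModuleCat.{u} A) (p + 1)).map Φ.τ₃).app Y).hom y) = 0 := by
      have := congrArg (fun k => k.hom y) hnat
      simp only [ModuleCat.hom_comp, LinearMap.comp_apply] at this
      rw [← this]
      have h9 := h1 p
      have : ((Tor (ModuleCat.{u} A) p).map Φ.τ₁).app Y = 0 := h9
      rw [this]
      simp
    have hex := (ShortComplex.ShortExact.moduleCat_exact_iff_function_exact _).mp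
      (tor_exact₃ S hS Y p)
    obtain ⟨z, hz⟩ := (hex _).mp h8
    have h10 := h2 (p + 1)
    rw [ModuleCat.ofHom_comp, Functor.map_comp, NatTrans.comp_app] at h10
    have h11 := congrArg (fun k => k.hom z) h10
    simp only [ModuleCat.hom_comp, LinearMap.comp_apply, ModuleCat.hom_zero,
      LinearMap.zero_apply] at h11
    simp only [ModuleCat.hom_comp, LinearMap.comp_apply, ModuleCat.hom_zero, LinearMap.zero_apply]
    change (((Tor (ModuleCat.{u} A) (p + 1)).map S.g).app Y).hom z = _ at hz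
    erw [← hz]
    exact h11

end Groth.Agent.Helper5.TorNull
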