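import Mathlib
import Groth.Agent.Lib.Helper5.TorNull.Null

universe u
open CategoryTheory CategoryTheory.Limits MonoidalCategory

namespace Groth.Agent.Helper5.TorNull
open Groth.Agent.Helper1.TorL

variable {A : Type u} [CommRing A] {N : Type u} [AddCommGroup N] [Module A N]

/-- the principal case -/
theorem principal [IsNoetherianRing A] (a : A) (ha : ∀ y : N, a • y = 0)
    (X : Type u) [AddCommGroup X] [Module A X] [Module.Finite A X] :
    ∃ n₀ : ℕ, ∀ n ≥ n₀, IsTorNull N ((Ideal.span {a}) ^ n • (⊤ : Submodule A X)).subtype := by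
  have hnoeth : IsNoetherian A X := inferInstance
  let K : ℕ →o Submodule A X :=
    { toFun := fun k => LinearMap.ker (a ^ k • (LinearMap.id : X →ₗ[A] X))
      monotone' := by
        intro k k' hkk' x hx
        obtain ⟨d, rfl⟩ := Nat.exists_eq_add_of_le hkk'
        rw [LinearMap.mem_ker, LinearMap.smul_apply, LinearMap.id_apply] at hx ⊢
        rw [pow_add, mul_comm, mul_smul, hx, smul_zero] }
  obtain ⟨c₀, hc₀⟩ := monotone_stabilizes_iff_noetherian.mpr hnoeth K
  set c := c₀ + 1 with hc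
  have hKc : ∀ x : X, a ^ (c + c) • x = 0 → a ^ c • x = 0 := by
    intro x hx
    have h1 : x ∈ K (c + c) := by
      show x ∈ LinearMap.ker _
      rw [LinearMap.mem_ker, LinearMap.smul_apply, LinearMap.id_apply, hx]
    have h2 : K (c + c) = K c := by
      rw [← hc₀ (c + c) (by omega), ← hc₀ c (by omega)]
    rw [h2] at h1
    have h3 : x ∈ LinearMap.ker (a ^ c • (LinearMap.id : X →ₗ[A] X)) := h1
    rw [LinearMap.mem_ker, LinearMap.smul_apply, LinearMap.id_apply] at h3
    exact h3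
  let Xr : ℕ → Submodule A X := fun k => LinearMap.range (a ^ k • (LinearMap.id : X →ₗ[A] X))
  have hXr : ∀ k (x : X), x ∈ Xr k ↔ ∃ y, a ^ k • y = x := fun k x => Iff.rfl
  let μ : Xr c →ₗ[A] Xr (c + c) :=
    LinearMap.codRestrict _ ((a ^ c • (LinearMap.id : X →ₗ[A] X)) ∘ₗ (Xr c).subtype) (by
      rintro ⟨x, y, rfl⟩
      exact ⟨y, by simp [pow_add, mul_smul]⟩)
  have hμ : Function.Bijective μ := by
    constructor
    · rw [injective_iff_map_eq_zero]
      rintro ⟨x, y, rfl⟩ h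
      have h' : a ^ c • (a ^ c • y) = 0 := congrArg Subtype.val h
      rw [← mul_smul, ← pow_add] at h'
      apply Subtype.ext
      exact hKc y h'
    · rintro ⟨x, y, rfl⟩
      refine ⟨⟨a ^ c • y, y, rfl⟩, Subtype.ext ?_⟩
      show a ^ c • (a ^ c • y) = a ^ (c + c) • y
      rw [← mul_smul, ← pow_add]
  have hcomp : (Xr (c + c)).subtype ∘ₗ μ = a • (a ^ c₀ • (Xr c).subtype) := by
    apply LinearMap.ext
    rintro ⟨x, hx⟩
    show a ^ c • x = a • a ^ c₀ • x
    rw [hc, pow_succ', mul_smul]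
  have hnull : IsTorNull N (Xr (c + c)).subtype := by
    apply IsTorNull.of_comp_bijective μ hμ
    rw [hcomp]
    exact IsTorNull.smul a ha _
  refine ⟨c + c, fun n hn => ?_⟩
  have hle : (Ideal.span {a}) ^ n • (⊤ : Submodule A X) ≤ Xr (c + c) := by
    rw [Ideal.span_singleton_pow, Submodule.ideal_span_singleton_smul]
    rintro x ⟨y, -, rfl⟩
    obtain ⟨d, rfl⟩ := Nat.exists_eq_add_of_le hn
    refine ⟨a ^ d • y, ?_⟩
    show a ^ (c + c) • a ^ d • y = a ^ (c + c + d) • y
    rw [← mul_smul, ← pow_add]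
  have : ((Ideal.span {a}) ^ n • (⊤ : Submodule A X)).subtype =
      (Xr (c + c)).subtype ∘ₗ Submodule.inclusion hle := rfl
  rw [this]
  exact hnull.comp_right _

section SupInf
variable {X : Type u} [AddCommGroup X] [Module A X] (P Q : Submodule A X)

def infToProd : ↥(P ⊓ Q) →ₗ[A] ↥P × ↥Q :=
  LinearMap.prod (Submodule.inclusion inf_le_left) (-(Submodule.inclusion inf_le_right))

def prodToSup : ↥P × ↥Q →ₗ[A] ↥(P ⊔ Q) :=
  LinearMap.coprod (Submodule.inclusion le_sup_left) (Submodule.inclusion le_sup_right)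

theorem infToProd_injective : Function.Injective (infToProd P Q) := by
  intro x y h
  have := congrArg (fun z => (z.1 : X)) h
  exact Subtype.ext this

theorem prodToSup_surjective : Function.Surjective (prodToSup P Q) := by
  rintro ⟨z, hz⟩
  obtain ⟨x, hx, y, hy, rfl⟩ := Submodule.mem_sup.mp hz
  exact ⟨(⟨x, hx⟩, ⟨y, hy⟩), Subtype.ext rfl⟩

theorem exact_infToProd_prodToSup : Function.Exact (infToProd P Q) (prodToSup P Q) := by
  rintro ⟨⟨x, hx⟩, ⟨y, hy⟩⟩
  constructor
  · intro h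
    have h' : x + y = 0 := congrArg Subtype.val h
    have hxy : x = -y := eq_neg_of_add_eq_zero_left h'
    refine ⟨⟨x, hx, hxy ▸ Q.neg_mem hy⟩, ?_⟩
    apply Prod.ext
    · exact Subtype.ext rfl
    · apply Subtype.ext
      show -x = y
      rw [hxy, neg_neg]
  · rintro ⟨⟨w, hw⟩, h⟩
    have h1 : w = x := congrArg (fun z => (z.1 : X)) h
    have h2 : -w = y := congrArg (fun z => (z.2 : X)) h
    apply Subtype.ext
    show x + y = 0
    rw [← h1, ← h2, add_neg_cancel]

end SupInf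

theorem isTorNull_inclusion_of_le_smul {X : Type u} [AddCommGroup X] [Module A X]
    {W V : Submodule A X} (hle : W ≤ V) (J : Ideal A) (k : ℕ) (hW : W ≤ J ^ k • V)
    (h : IsTorNull N (J ^ k • (⊤ : Submodule A V)).subtype) :
    IsTorNull N (Submodule.inclusion hle) := by
  let ρ : ↥W →ₗ[A] ↥(J ^ k • (⊤ : Submodule A V)) :=
    LinearMap.codRestrict _ (Submodule.inclusion hle) (by
      intro x
      rw [Submodule.mem_smul_top_iff]
      exact hW x.2)
  have : Submodule.inclusion hle = (J ^ k • (⊤ : Submodule A V)).subtype ∘ₗ ρ :=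
    LinearMap.ext fun x => rfl
  rw [this]
  exact h.comp_right ρ

theorem isTorNull_sup {X : Type u} [AddCommGroup X] [Module A X] (Q P : Submodule A X)
    (hQ : IsTorNull N Q.subtype) (hP : IsTorNull N P.subtype) :
    IsTorNull N ((Q ⊔ P).subtype ∘ₗ prodToSup Q P) := by
  have : (Q ⊔ P).subtype ∘ₗ prodToSup Q P =
      Q.subtype ∘ₗ LinearMap.fst A Q P + P.subtype ∘ₗ LinearMap.snd A Q P := by
    apply LinearMap.ext
    rintro ⟨x, y⟩
    rfl
  rw [this]
  exact (hQ.comp_right _).add (hP.comp_right _)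

theorem isTorNull_sup_of_inf {X : Type u} [AddCommGroup X] [Module A X] (Q' Q P : Submodule A X)
    (hQ'Q : Q' ≤ Q) (h1 : IsTorNull N (Submodule.inclusion (inf_le_inf_right P hQ'Q)))
    (hQ : IsTorNull N Q.subtype) (hP : IsTorNull N P.subtype) :
    IsTorNull N (Q' ⊔ P).subtype := by
  have hle₃ : Q' ⊔ P ≤ Q ⊔ P := sup_le_sup_right hQ'Q P
  have key : IsTorNull N ((Q ⊔ P).subtype ∘ₗ Submodule.inclusion hle₃) :=
    isTorNull_of_ses (infToProd Q' P) (prodToSup Q' P) (infToProd_injective Q' P)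
      (prodToSup_surjective Q' P) (exact_infToProd_prodToSup Q' P)
      (infToProd Q P) (prodToSup Q P) (infToProd_injective Q P)
      (prodToSup_surjective Q P) (exact_infToProd_prodToSup Q P)
      (Submodule.inclusion (inf_le_inf_right P hQ'Q))
      (LinearMap.prodMap (Submodule.inclusion hQ'Q) LinearMap.id)
      (Submodule.inclusion hle₃) (LinearMap.ext fun x => rfl)
      (LinearMap.ext fun x => rfl) (Q ⊔ P).subtype h1 (isTorNull_sup Q P hQ hP)
  exact key

theorem isTorNull_of_le {X : Type u} [AddCommGroup X] [Module A X] {W V : Submodule A X}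
    (hle : W ≤ V) (h : IsTorNull N V.subtype) : IsTorNull N W.subtype := by
  have : W.subtype = V.subtype ∘ₗ Submodule.inclusion hle := LinearMap.ext fun x => rfl
  rw [this]
  exact h.comp_right _

theorem step [IsNoetherianRing A] (a : A) (ha : ∀ y : N, a • y = 0) (J' : Ideal A)
    (IH : ∀ (X : Type u) [AddCommGroup X] [Module A X] [Module.Finite A X],
      ∃ n₀ : ℕ, ∀ n ≥ n₀, IsTorNull N (J' ^ n • (⊤ : Submodule A X)).subtype)
    (X : Type u) [AddCommGroup X] [Module A X] [Module.Finite A X] :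
    ∃ n₀ : ℕ, ∀ n ≥ n₀,
      IsTorNull N ((Ideal.span {a} ⊔ J') ^ n • (⊤ : Submodule A X)).subtype := by
  obtain ⟨n₁, h₁⟩ := IH X
  obtain ⟨n₂, h₂⟩ := principal (N := N) a ha X
  obtain ⟨k, hk⟩ := Ideal.exists_pow_inf_eq_pow_smul (Ideal.span {a})
    (J' ^ n₁ • (⊤ : Submodule A X))
  obtain ⟨c, hkc, hn₂c⟩ : ∃ c, k ≤ c ∧ n₂ ≤ c := ⟨max k n₂, le_max_left _ _, le_max_right _ _⟩
  obtain ⟨k₀, hk₀⟩ := principal (N := N) a ha
    ↥((Ideal.span {a}) ^ c • (⊤ : Submodule A X) ⊓ J' ^ n₁ • (⊤ : Submodule A X))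
  have hQ'Q : (Ideal.span {a}) ^ (c + k₀) • (⊤ : Submodule A X) ≤
      (Ideal.span {a}) ^ c • (⊤ : Submodule A X) :=
    Submodule.smul_mono_left (Ideal.pow_le_pow_right (Nat.le_add_right c k₀))
  have hW : (Ideal.span {a}) ^ (c + k₀) • (⊤ : Submodule A X) ⊓ J' ^ n₁ • (⊤ : Submodule A X) ≤
      (Ideal.span {a}) ^ k₀ • ((Ideal.span {a}) ^ c • (⊤ : Submodule A X) ⊓
        J' ^ n₁ • (⊤ : Submodule A X)) := by
    rw [hk (c + k₀) (hkc.trans (Nat.le_add_right c k₀))]
    have e : c + k₀ - k = k₀ + (c - k) := by omega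
    rw [e, pow_add, Submodule.mul_smul]
    apply Submodule.smul_mono le_rfl
    apply le_inf
    · calc (Ideal.span {a}) ^ (c - k) • ((Ideal.span {a}) ^ k • ⊤ ⊓ J' ^ n₁ • ⊤)
          ≤ (Ideal.span {a}) ^ (c - k) • ((Ideal.span {a}) ^ k • (⊤ : Submodule A X)) :=
            Submodule.smul_mono le_rfl inf_le_left
        _ = (Ideal.span {a}) ^ c • (⊤ : Submodule A X) := by
            rw [← Submodule.mul_smul, ← pow_add, Nat.sub_add_cancel hkc]
    · exact Submodule.smul_le_right.trans inf_le_right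
  have hφ₁ := isTorNull_inclusion_of_le_smul (N := N) (inf_le_inf_right _ hQ'Q) (Ideal.span {a}) k₀
    hW (hk₀ k₀ le_rfl)
  have key := isTorNull_sup_of_inf (N := N) _ _ _ hQ'Q hφ₁ (h₂ c hn₂c) (h₁ n₁ le_rfl)
  refine ⟨c + k₀ + n₁, fun n hn => ?_⟩
  have hle : (Ideal.span {a} ⊔ J') ^ n • (⊤ : Submodule A X) ≤
      (Ideal.span {a}) ^ (c + k₀) • (⊤ : Submodule A X) ⊔ J' ^ n₁ • (⊤ : Submodule A X) := by
    calc (Ideal.span {a} ⊔ J') ^ n • (⊤ : Submodule A X)
        ≤ (Ideal.span {a} ⊔ J') ^ (c + k₀ + n₁) • ⊤ :=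
          Submodule.smul_mono_left (Ideal.pow_le_pow_right hn)
      _ ≤ ((Ideal.span {a}) ^ (c + k₀) ⊔ J' ^ n₁) • ⊤ :=
          Submodule.smul_mono_left Ideal.sup_pow_add_le_pow_sup_pow
      _ = _ := Submodule.sup_smul _ _ _
  exact isTorNull_of_le hle key

theorem main [IsNoetherianRing A] (s : Finset A) (hs : ∀ a ∈ s, ∀ y : N, a • y = 0) :
    ∀ (X : Type u) [AddCommGroup X] [Module A X] [Module.Finite A X],
      ∃ n₀ : ℕ, ∀ n ≥ n₀,
        IsTorNull N ((Ideal.span (s : Set A)) ^ n • (⊤ : Submodule A X)).subtype := by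
  classical
  induction s using Finset.induction_on with
  | empty =>
    intro X _ _ _
    refine ⟨1, fun n hn => ?_⟩
    have h0 : (Ideal.span ((∅ : Finset A) : Set A)) ^ n • (⊤ : Submodule A X) = ⊥ := by
      rw [Finset.coe_empty, Ideal.span_empty, Ideal.bot_pow (by omega), Submodule.bot_smul]
    have : ((Ideal.span ((∅ : Finset A) : Set A)) ^ n • (⊤ : Submodule A X)).subtype = 0 := by
      apply LinearMap.ext
      rintro ⟨x, hx⟩
      rw [h0] at hx
      exact (Submodule.mem_bot A).mp hx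
    rw [this]
    exact IsTorNull.zero
  | insert a s _ ih =>
    intro X _ _ _
    have hsa : ∀ y : N, a • y = 0 := hs a (Finset.mem_insert_self a s)
    have ih' := ih (fun b hb => hs b (Finset.mem_insert_of_mem hb))
    have := step (N := N) a hsa (Ideal.span (s : Set A)) ih' X
    rw [Finset.coe_insert, Ideal.span_insert]
    exact this

theorem s7161 (A : Type u) [CommRing A] [IsNoetherianRing A] (I : Ideal A)
    (M N : Type u) [AddCommGroup M] [Module A M] [Module.Finite A M] [AddCommGroup N] [Module A N]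
    (hN : ∀ a ∈ I, ∀ y : N, a • y = 0) :
    ∃ n : ℕ, 0 < n ∧ ∀ p : ℕ,
      ((CategoryTheory.Tor (ModuleCat.{u} A) p).map (ModuleCat.ofHom (I ^ n • ⊤ : Submodule A M).subtype)).app
        (ModuleCat.of A N) = 0 := by
  obtain ⟨s, rfl⟩ := (isNoetherianRing_iff_ideal_fg A).mp inferInstance I
  obtain ⟨n₀, hn₀⟩ := main (N := N) s (fun a ha => hN a (Ideal.subset_span ha)) M
  exact ⟨n₀ + 1, Nat.succ_pos _, hn₀ (n₀ + 1) (Nat.le_succ _)⟩

end Groth.Agent.Helper5.TorNull
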